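import Mathlib
import Cfsg.Agent.S0183
import Cfsg.Agent.S0200
import Cfsg.Agent.Characters.FrobeniusKernel
import Cfsg.Agent.FGS.PrimePart

/-!
# Groups with a prime-power coset condition

If every element outside the kernel of a surjection onto a nonabelian simple group has prime power
order, then no faithful action on a nontrivial group of odd order can have all outside involutions
acting without fixed points.
-/

namespace CfsgLib.PrimePowerOutside

open Subgroup
open scoped commutatorElement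

set_option linter.style.haveILetI false
set_option linter.unusedSectionVars false

variable {X S : Type*} [Group X] [Finite X] [Group S] [Finite S]

/-- A prime power equals a power of any prime dividing it. -/
theorem eq_pow_of_dvd {m r : ℕ} (hm : IsPrimePow m) (hr : r.Prime) (hd : r ∣ m) :
    ∃ a, m = r ^ a := by
  obtain ⟨q, a, hq, -, rfl⟩ := (isPrimePow_nat_iff m).mp hm
  exact ⟨a, by rw [(Nat.prime_dvd_prime_iff_eq hr hq).mp (hr.dvd_of_dvd_pow hd)]⟩

/-- A lift of an element of `r`-power order outside the kernel is an `r`-element. -/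
theorem lift_pow {π : X →* S} (hpp : ∀ x, π x ≠ 1 → IsPrimePow (orderOf x)) {x : X} (hx : π x ≠ 1)
    {r : ℕ} (hr : r.Prime) (hd : r ∣ orderOf (π x)) : ∃ a, orderOf x = r ^ a :=
  eq_pow_of_dvd (hpp x hx) hr (hd.trans (orderOf_map_dvd π x))

/-- Commuting elements of coprime orders cannot have a product outside. -/
theorem not_commute {π : X →* S} (hpp : ∀ x, π x ≠ 1 → IsPrimePow (orderOf x)) {x v : X}
    (hxv : π (x * v) ≠ 1) (hc : Commute x v) {p q a b : ℕ} (hp : p.Prime) (hq : q.Prime)
    (hpq : p ≠ q) (hx : orderOf x = p ^ a) (hv : orderOf v = q ^ b) : x = 1 ∨ v = 1 := by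
  by_contra hne
  push Not at hne
  have ha : a ≠ 0 := fun h => hne.1 (orderOf_eq_one_iff.mp (by rw [hx, h, pow_zero]))
  have hb : b ≠ 0 := fun h => hne.2 (orderOf_eq_one_iff.mp (by rw [hv, h, pow_zero]))
  have hcop : (orderOf x).Coprime (orderOf v) := by
    rw [hx, hv]; exact Nat.Coprime.pow _ _ ((Nat.coprime_primes hp hq).mpr hpq)
  have ho := hc.orderOf_mul_eq_mul_orderOf_of_coprime hcop
  have hd : p ∣ orderOf (x * v) := by
    rw [ho, hx]
    exact Dvd.dvd.mul_right (dvd_pow_self p ha) _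
  have hd' : q ∣ orderOf (x * v) := by
    rw [ho, hv]
    exact Dvd.dvd.mul_left (dvd_pow_self q hb) _
  obtain ⟨c, hc'⟩ := eq_pow_of_dvd (hpp _ hxv) hp hd
  exact hpq ((Nat.prime_dvd_prime_iff_eq hq hp).mp (hq.dvd_of_dvd_pow (hc' ▸ hd'))).symm

/-- A nonabelian simple group all of whose elements have prime power order has two commuting
involutions. -/
theorem exists_commuting_involutions [IsSimpleGroup S] (hna : ¬ IsMulCommutative S)
    (hpp : ∀ x : S, x ≠ 1 → IsPrimePow (orderOf x)) :
    ∃ t u : S, orderOf t = 2 ∧ orderOf u = 2 ∧ t ≠ u ∧ Commute t u := by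
  have hpp' : ∀ x : S, MonoidHom.id S x ≠ 1 → IsPrimePow (orderOf x) := hpp
  have hcen : ∀ g : S, g ≠ 1 → ∀ y ∈ centralizer ({g} : Set S), ∀ q : ℕ, q.Prime →
      q ∣ orderOf g → ∃ a, orderOf y = q ^ a := by
    intro g hg y hy q hq hqd
    rcases eq_or_ne y 1 with rfl | hy1
    · exact ⟨0, by simp⟩
    obtain ⟨a, ha⟩ := eq_pow_of_dvd (hpp g hg) hq hqd
    obtain ⟨r, b, hr, -, hyr⟩ := (isPrimePow_nat_iff _).mp (hpp y hy1)
    by_cases hrq : r = q
    · exact ⟨b, hrq ▸ hyr.symm⟩
    exfalso
    have hc : Commute g y := (mem_centralizer_singleton_iff.mp hy).symm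
    by_cases hgy : g * y = 1
    · rw [← inv_eq_of_mul_eq_one_right hgy, orderOf_inv, ha] at hyr
      have hr' : r ∣ q ^ a := hyr ▸ dvd_pow_self r (by
        rintro rfl; exact hy1 (by
          rw [pow_zero] at hyr
          have : g = 1 := orderOf_eq_one_iff.mp (ha.trans hyr.symm)
          exact absurd this hg))
      exact hrq ((Nat.prime_dvd_prime_iff_eq hr hq).mp (hr.dvd_of_dvd_pow hr'))
    · rcases not_commute hpp' hgy hc hq hr (Ne.symm hrq) ha hyr.symm with h | h
      · exact hg h
      · exact hy1 h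
  have hCN : Cfsg.IsCNGroup S := by
    intro g hg
    have hq := Nat.minFac_prime (show orderOf g ≠ 1 by simpa using hg)
    haveI := Fact.mk hq
    refine IsPGroup.isNilpotent (p := (orderOf g).minFac) fun y => ?_
    obtain ⟨a, ha⟩ := hcen g hg y y.2 _ hq (Nat.minFac_dvd _)
    exact ⟨a, Subtype.ext (by
      rw [Subgroup.coe_pow, Subgroup.coe_one, ← ha, pow_orderOf_eq_one])⟩
  have heven : 2 ∣ Nat.card S := by
    by_contra h
    have := Cfsg.Agent.S0183.result (Nat.not_even_iff_odd.mp (fun he => h he.two_dvd)) hCN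
    exact hna ⟨⟨fun a b => IsSimpleGroup.comm_iff_isSolvable.mpr this a b⟩⟩
  obtain ⟨t, ht⟩ := exists_prime_orderOf_dvd_card' 2 heven
  by_contra hcon
  push Not at hcon
  set C := centralizer ({t} : Set S) with hC
  have ht1 : t ≠ 1 := fun h => by simp [h] at ht
  have huniq : ∀ u ∈ C, orderOf u = 2 → u = t := fun u hu hu2 => by
    by_contra hne
    exact hcon t u ht hu2 (Ne.symm hne) (mem_centralizer_singleton_iff.mp hu).symm
  have hmal : ∀ g : S, g ∉ C → ∀ x ∈ C, g * x * g⁻¹ ∈ C → x = 1 := by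
    intro g hg x hx hgx
    by_contra hx1
    obtain ⟨a, ha⟩ := hcen t ht1 x hx 2 Nat.prime_two (ht ▸ dvd_rfl)
    obtain ⟨b, rfl⟩ : ∃ b, a = b + 1 := Nat.exists_eq_succ_of_ne_zero
      (fun h => hx1 (orderOf_eq_one_iff.mp (by rw [ha, h, pow_zero])))
    have hu2 : orderOf (x ^ 2 ^ b) = 2 := by
      rw [orderOf_pow' _ (pow_ne_zero _ two_ne_zero), ha, pow_succ,
        Nat.gcd_eq_right (dvd_mul_right _ _), Nat.mul_div_cancel_left _ (by positivity)]
    have h1 := huniq _ (pow_mem hx _) hu2
    have h2 := huniq _ (pow_mem hgx (2 ^ b)) (by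
      rw [conj_pow]
      exact (orderOf_injective (MulAut.conj g).toMonoidHom (MulAut.conj g).injective _).trans hu2)
    rw [conj_pow, h1] at h2
    exact hg (mem_centralizer_singleton_iff.mpr (mul_inv_eq_iff_eq_mul.mp h2))
  obtain ⟨K, hKn, hK, -⟩ := CfsgLib.Characters.exists_frobenius_kernel C hmal
  rcases hKn.eq_bot_or_eq_top with h | h
  · subst h
    have hCtop : C = ⊤ := isComplement'_bot_left.mp hK
    have hz : t ∈ center S := mem_center_iff.mpr fun g =>
      (mem_centralizer_singleton_iff.mp (hCtop.ge (mem_top g)))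
    rcases (inferInstance : (center S).Normal).eq_bot_or_eq_top with h' | h'
    · exact ht1 (mem_bot.mp (h'.le hz))
    · exact hna ⟨⟨fun a b => (mem_center_iff.mp (h'.ge (mem_top b)) a)⟩⟩
  · subst h
    exact ht1 (mem_bot.mp ((isComplement'_top_left.mp hK).le
      (mem_centralizer_singleton_iff.mpr rfl)))

variable {P : Type*} [Group P] [Finite P]

/-- Fixed-point-free involutory automorphisms are all equal. -/
theorem aut_eq {ψ : X →* MulAut P} {x y : X} (hx2 : x * x = 1) (hy2 : y * y = 1)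
    (hx : MonoidHom.FixedPointFree (ψ x : P → P)) (hy : MonoidHom.FixedPointFree (ψ y : P → P)) :
    ψ x = ψ y := by
  have inv : ∀ z : X, z * z = 1 → Function.Involutive (ψ z : P → P) := fun z hz v => by
    rw [← MulAut.mul_apply, ← map_mul, hz, map_one, MulAut.one_apply]
  ext v
  rw [congrFun (MonoidHom.FixedPointFree.coe_eq_inv_of_involutive (φ := ψ x) hx (inv x hx2)) v,
    congrFun (MonoidHom.FixedPointFree.coe_eq_inv_of_involutive (φ := ψ y) hy (inv y hy2)) v]

/-- The key contradiction when the Sylow `2`-subgroup of the kernel is normal. -/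
theorem false_of_normal_two [IsSimpleGroup S] (hna : ¬ IsMulCommutative S) (π : X →* S)
    (hπ : Function.Surjective π) (hpp : ∀ x, π x ≠ 1 → IsPrimePow (orderOf x))
    (ψ : X →* MulAut P) (hinj : Function.Injective ψ)
    (hfpf : ∀ x, π x ≠ 1 → x * x = 1 → MonoidHom.FixedPointFree (ψ x : P → P))
    (R : Subgroup X) [R.Normal] (hRker : R ≤ π.ker) (hR : IsPGroup 2 R)
    (hRmax : ∀ x ∈ π.ker, (∃ a, orderOf x = 2 ^ a) → x ∈ R) : False := by
  haveI : Fact (Nat.Prime 2) := ⟨Nat.prime_two⟩
  have hppS : ∀ s : S, s ≠ 1 → IsPrimePow (orderOf s) := fun s hs => by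
    obtain ⟨x, rfl⟩ := hπ s
    exact (hpp x hs).dvd (orderOf_map_dvd π x) (fun h => hs (orderOf_eq_one_iff.mp h))
  -- two outside involutions whose product is also such act equally
  have key : ∀ x z : X, π x ≠ 1 → π (x * z) ≠ 1 → x * x = 1 → x * z * (x * z) = 1 → z = 1 := by
    intro x z hx hxz hx2 hxz2
    have := hinj (aut_eq (ψ := ψ) hx2 hxz2 (hfpf x hx hx2) (hfpf _ hxz hxz2))
    simpa using this.symm
  obtain ⟨t, u, ht, hu, htu, hc⟩ := exists_commuting_involutions hna hppS
  have ht1 : t ≠ 1 := fun h => by simp [h] at ht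
  have hu1 : u ≠ 1 := fun h => by simp [h] at hu
  by_cases hRbot : R = ⊥
  · subst hRbot
    -- lift the two involutions
    have ht2 : t ^ 2 = 1 := ht ▸ pow_orderOf_eq_one t
    have hu2 : u ^ 2 = 1 := hu ▸ pow_orderOf_eq_one u
    have hclosure : IsPGroup 2 (closure ({t, u} : Set S)) := by
      intro w
      refine ⟨1, Subtype.ext ?_⟩
      have hcomm : ∀ a ∈ ({t, u} : Set S), ∀ b ∈ ({t, u} : Set S), a * b = b * a := by
        rintro a (rfl | rfl) b (rfl | rfl)
        exacts [rfl, hc.eq, hc.eq.symm, rfl]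
      haveI : IsMulCommutative (closure ({t, u} : Set S)) :=
        Subgroup.isMulCommutative_closure hcomm
      rw [pow_one, Subgroup.coe_pow, Subgroup.coe_one]
      have h1 : ∀ a ∈ closure ({t, u} : Set S), a ^ 2 = 1 := by
        intro a ha
        induction ha using closure_induction with
        | mem a ha => rcases ha with rfl | rfl <;> assumption
        | one => simp
        | mul a b ha hb iha ihb =>
          have hab : Commute a b := setLike_mul_comm (s := closure ({t, u} : Set S)) ha hb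
          rw [hab.mul_pow, iha, ihb, one_mul]
        | inv a _ iha => rw [inv_pow, iha, inv_one]
      exact h1 w w.2
    obtain ⟨Q, hQ⟩ := hclosure.exists_le_sylow
    obtain ⟨T, hT⟩ := Sylow.mapSurjective_surjective hπ 2 Q
    have hmap : (T : Subgroup X).map π = Q := by
      rw [← hT]; exact (Sylow.coe_mapSurjective hπ T).symm
    obtain ⟨x, hxT, hx⟩ := mem_map.mp (hmap.ge (hQ (subset_closure (by simp : t ∈ ({t, u} : Set S)))))
    obtain ⟨y, hyT, hy⟩ := mem_map.mp (hmap.ge (hQ (subset_closure (by simp : u ∈ ({t, u} : Set S)))))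
    have hinjT : ∀ w ∈ (T : Subgroup X), π w = 1 → w = 1 := fun w hw hw1 => mem_bot.mp
      (hRmax w hw1 ((IsPGroup.iff_orderOf.mp T.isPGroup' ⟨w, hw⟩).imp fun a ha => by
        rwa [Subgroup.orderOf_mk] at ha))
    have hx2 : x * x = 1 := hinjT _ (mul_mem hxT hxT) (by rw [map_mul, hx, ← sq, ht2])
    have hy2 : y * y = 1 := hinjT _ (mul_mem hyT hyT) (by rw [map_mul, hy, ← sq, hu2])
    have hxy : x * y * (x * y) = 1 := hinjT _ (mul_mem (mul_mem hxT hyT) (mul_mem hxT hyT)) (by
      simp only [map_mul, hx, hy]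
      rw [← sq, hc.mul_pow, ht2, hu2, one_mul])
    have hy1 := key x y (hx ▸ ht1) (by
      rw [map_mul, hx, hy]
      intro h
      exact htu (mul_left_cancel (a := t) (by rw [h, ← sq, ht2]))) hx2 hxy
    exact hu1 (by rw [← hy, hy1, map_one])
  · -- an involution outside the kernel
    obtain ⟨h, hh1, hhodd, hinv⟩ := Cfsg.Agent.S0200.result t ht (by
      intro N hN hN2 htN
      rcases hN.eq_bot_or_eq_top with e | e
      · subst e; exact ht1 (mem_bot.mp htN)
      · subst e
        haveI := (hN2.of_equiv topEquiv : IsPGroup 2 S).isNilpotent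
        exact hna ⟨⟨fun a b => IsSimpleGroup.comm_iff_isSolvable.mpr inferInstance a b⟩⟩)
    obtain ⟨y, rfl⟩ := hπ h
    obtain ⟨g, hg⟩ := hπ t
    obtain ⟨r, a, hr, -, hyr⟩ := (isPrimePow_nat_iff _).mp (hpp y hh1)
    haveI := Fact.mk hr
    have hr2 : r ≠ 2 := by
      intro e
      subst e
      obtain ⟨i, -, hi⟩ := (Nat.dvd_prime_pow hr).mp (hyr ▸ orderOf_map_dvd π y)
      rcases Nat.eq_zero_or_pos i with rfl | hi0
      · exact hh1 (orderOf_eq_one_iff.mp (by rw [hi, pow_zero]))
      · rw [hi, Nat.odd_pow_iff (by omega)] at hhodd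
        exact absurd hhodd (by decide)
    set Y := (zpowers (π y)).comap π with hY
    have hyY : y ∈ Y := mem_zpowers (π y)
    have htY : ∀ w ∈ Y, t * π w * t⁻¹ = (π w)⁻¹ := by
      intro w hw
      obtain ⟨i, hi⟩ := mem_zpowers_iff.mp hw
      rw [← hi, ← conj_zpow, hinv, inv_zpow]
    have hyP : IsPGroup r (zpowers y) := by
      rw [IsPGroup.iff_card]; exact ⟨a, by rw [Nat.card_zpowers, hyr]⟩
    obtain ⟨S1, hS1⟩ := (hyP.of_equiv (subgroupOfEquivOfLe (zpowers_le.mpr hyY)).symm).exists_le_sylow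
    set S1' := (S1 : Subgroup Y).map Y.subtype with hS1'
    have hS1Y : S1' ≤ Y := map_subtype_le _
    have hyS : y ∈ S1' := ⟨⟨y, hyY⟩, hS1 (mem_zpowers y), rfl⟩
    obtain ⟨n, hnN, w, hw, hgn⟩ : ∃ n, (∀ v ∈ S1', n * v * n⁻¹ ∈ S1') ∧ ∃ w ∈ Y, g = w * n := by
      let c : Y →* Y := {
        toFun := fun v => ⟨g * v * g⁻¹, by
          show π (g * v * g⁻¹) ∈ zpowers (π y)
          rw [map_mul, map_mul, map_inv, hg, htY v v.2]
          exact inv_mem v.2⟩
        map_one' := Subtype.ext (by simp)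
        map_mul' := fun a b => Subtype.ext (by simp only [Subgroup.coe_mul]; group) }
      have hc' : Function.Injective c := fun a b hab => Subtype.ext (by
        simpa [c] using congrArg Subtype.val hab)
      have hp2 : IsPGroup r ((S1 : Subgroup Y).map c) := S1.isPGroup'.map c
      obtain ⟨S2, hS2⟩ := hp2.exists_le_sylow
      have hcard : (S1 : Subgroup Y).map c = S2 := Subgroup.eq_of_le_of_card_ge hS2 (by
        rw [Subgroup.card_map_of_injective hc', Sylow.card_eq_multiplicity,
          Sylow.card_eq_multiplicity])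
      obtain ⟨w, hw⟩ := MulAction.exists_smul_eq Y S1 S2
      have hw' : (S1 : Subgroup Y).map c = (S1 : Subgroup Y).map (MulAut.conj w).toMonoidHom := by
        rw [hcard, ← hw, Sylow.coe_subgroup_smul]; rfl
      refine ⟨(w : X)⁻¹ * g, ?_, w, w.2, by group⟩
      rintro _ ⟨v, hv, rfl⟩
      obtain ⟨v', hv', hvv⟩ := mem_map.mp (hw'.le ⟨v, hv, rfl⟩)
      refine ⟨v', hv', ?_⟩
      have := congrArg Subtype.val hvv
      simp only [MulEquiv.toMonoidHom_eq_coe, MonoidHom.coe_coe, MulAut.conj_apply,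
        Subgroup.coe_mul, Subgroup.coe_inv] at this
      show (v' : X) = (w : X)⁻¹ * g * (v : X) * ((w : X)⁻¹ * g)⁻¹
      have hv2 : (c v : X) = g * v * g⁻¹ := rfl
      rw [hv2] at this
      calc (v' : X) = (w : X)⁻¹ * ((w : X) * v' * (w : X)⁻¹) * w := by group
        _ = _ := by rw [this]; group
    -- the image of `n` is an involution
    have ht2 : t * t = 1 := by rw [← sq, ← ht, pow_orderOf_eq_one]
    have hπn : π n = (π w)⁻¹ * t := by rw [← hg, hgn, map_mul, inv_mul_cancel_left]
    have hπn2 : π (n * n) = 1 := by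
      have h1 := htY w⁻¹ (inv_mem hw)
      rw [map_inv, inv_inv] at h1
      rw [map_mul, hπn]
      calc (π w)⁻¹ * t * ((π w)⁻¹ * t) = (π w)⁻¹ * (t * (π w)⁻¹ * t⁻¹) * (t * t) := by group
        _ = 1 := by rw [h1, ht2, mul_one, inv_mul_cancel]
    have hπn1 : π n ≠ 1 := by
      rw [hπn]
      intro e
      have e' : t = π w := by rwa [inv_mul_eq_one, eq_comm] at e
      have : orderOf t ∣ orderOf (π y) := by rw [e']; exact orderOf_dvd_of_mem_zpowers hw
      rw [ht] at this
      exact (Nat.not_even_iff_odd.mpr hhodd) (even_iff_two_dvd.mpr this)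
    have hn2 : ∃ b, orderOf n = 2 ^ b := lift_pow hpp hπn1 Nat.prime_two (by
      rw [show orderOf (π n) = 2 from orderOf_eq_prime (by rw [sq, ← map_mul, hπn2]) hπn1])
    have hnR : n * n ∈ R := hRmax _ hπn2 (by
      obtain ⟨b, hb⟩ := hn2
      obtain ⟨i, -, hi⟩ := (Nat.dvd_prime_pow Nat.prime_two).mp
        (hb ▸ orderOf_pow_dvd (x := n) 2)
      exact ⟨i, by rwa [sq] at hi⟩)
    have hnn : n * n = 1 := by
      by_contra hne
      have hcy : Commute (n * n) y := by
        rw [← commutatorElement_eq_one_iff_commute]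
        have h1 : ⁅n * n, y⁆ ∈ R := by
          rw [commutatorElement_def, mul_assoc, mul_assoc]
          exact mul_mem hnR (by
            rw [← mul_assoc]; exact (inferInstance : R.Normal).conj_mem _ (inv_mem hnR) y)
        have h2 : ⁅n * n, y⁆ ∈ S1' := by
          rw [commutatorElement_def]
          refine mul_mem ?_ (inv_mem hyS)
          have := hnN _ (hnN y hyS)
          rwa [show n * n * y * (n * n)⁻¹ = n * (n * y * n⁻¹) * n⁻¹ by group]
        have hdisj : Disjoint R S1' := (IsPGroup.disjoint_of_ne 2 r hr2.symm R S1' hR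
          (S1.isPGroup'.map Y.subtype))
        exact mem_bot.mp (hdisj.le_bot ⟨h1, h2⟩)
      obtain ⟨b, hb⟩ : ∃ b, orderOf (n * n) = 2 ^ b := by
        obtain ⟨b, hb⟩ := IsPGroup.iff_orderOf.mp hR ⟨n * n, hnR⟩
        exact ⟨b, by rwa [Subgroup.orderOf_mk] at hb⟩
      rcases not_commute hpp (by rw [map_mul, hπn2, one_mul]; exact hh1) hcy Nat.prime_two hr
        hr2.symm hb hyr.symm with h | h
      · exact hne h
      · exact hh1 (by rw [h, map_one])
    -- a fixed point of `n` in `R`
    have hRcard : 2 ∣ Nat.card R := by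
      haveI : Nontrivial R := (nontrivial_iff_ne_bot R).mpr hRbot
      exact hR.card_eq_or_dvd.resolve_left Finite.one_lt_card.ne'
    have hnP : IsPGroup 2 (zpowers n) := by
      obtain ⟨b, hb⟩ := hn2
      rw [IsPGroup.iff_card]; exact ⟨b, by rw [Nat.card_zpowers, hb]⟩
    obtain ⟨z, hzR, hz1, hzc⟩ := CfsgLib.FGS.exists_mem_ne_one_commute hnP hRcard
    obtain ⟨b, hb⟩ := IsPGroup.iff_orderOf.mp hR ⟨z, hzR⟩
    rw [Subgroup.orderOf_mk] at hb
    obtain ⟨b', rfl⟩ : ∃ b', b = b' + 1 := Nat.exists_eq_succ_of_ne_zero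
      (fun e => hz1 (orderOf_eq_one_iff.mp (by rw [hb, e, pow_zero])))
    set z' := z ^ 2 ^ b' with hz'
    have hz'1 : z' ≠ 1 := fun e => by
      have := orderOf_dvd_of_pow_eq_one e
      rw [hb, Nat.pow_dvd_pow_iff_le_right one_lt_two] at this
      omega
    have hz'2 : z' * z' = 1 := by
      rw [hz', ← pow_add, ← two_mul, ← pow_succ', ← hb, pow_orderOf_eq_one]
    have hcz : Commute n z' := (show Commute n z from hzc n (mem_zpowers n)).pow_right _
    refine hz'1 (key n z' hπn1 ?_ hnn ?_)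
    · rw [map_mul, MonoidHom.mem_ker.mp (hRker (pow_mem hzR _)), mul_one]; exact hπn1
    · calc n * z' * (n * z') = (n * n) * (z' * z') := by
            rw [mul_assoc n z', ← mul_assoc z', ← hcz.eq]; group
        _ = 1 := by rw [hnn, hz'2, one_mul]

/-- The key contradiction. -/
theorem false_of_fpf [IsSimpleGroup S] (hna : ¬ IsMulCommutative S) (π : X →* S)
    (hπ : Function.Surjective π) (hpp : ∀ x, π x ≠ 1 → IsPrimePow (orderOf x))
    (ψ : X →* MulAut P) (hinj : Function.Injective ψ)
    (hfpf : ∀ x, π x ≠ 1 → x * x = 1 → MonoidHom.FixedPointFree (ψ x : P → P)) : False := by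
  haveI : Fact (Nat.Prime 2) := ⟨Nat.prime_two⟩
  obtain ⟨R0⟩ : Nonempty (Sylow 2 π.ker) := inferInstance
  set R := (R0 : Subgroup π.ker).map π.ker.subtype with hR
  set X' := normalizer (R : Set X) with hX'
  have hF : X' ⊔ π.ker = ⊤ := R0.normalizer_sup_eq_top
  have hRX : R ≤ X' := le_normalizer
  have hsurj : Function.Surjective (π.comp X'.subtype) := by
    intro s
    obtain ⟨x, rfl⟩ := hπ s
    obtain ⟨a, ha, b, hb, hab⟩ := mem_sup_of_normal_right.mp (hF.ge (mem_top x))
    exact ⟨⟨a, ha⟩, by simp [← hab, MonoidHom.mem_ker.mp hb]⟩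
  haveI : (R.subgroupOf X').Normal := normal_in_normalizer
  refine false_of_normal_two hna (π.comp X'.subtype) hsurj
    (fun x hx => by simpa using hpp x hx) (ψ.comp X'.subtype)
    (hinj.comp Subtype.val_injective)
    (fun x hx hx2 => hfpf x hx (by simpa using congrArg Subtype.val hx2))
    (R.subgroupOf X') (fun x hx => MonoidHom.mem_ker.mpr (MonoidHom.mem_ker.mp (
      map_subtype_le (R0 : Subgroup π.ker) (mem_subgroupOf.mp hx) : (x : X) ∈ π.ker)))
    ((R0.isPGroup'.map _).comap_of_injective _ Subtype.val_injective) ?_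
  intro x hx ⟨a, ha⟩
  have hxP : IsPGroup 2 (zpowers (x : X)) := by
    rw [IsPGroup.iff_card]; exact ⟨a, by rw [Nat.card_zpowers, Subgroup.orderOf_coe, ha]⟩
  have hsup : IsPGroup 2 (R ⊔ zpowers (x : X) : Subgroup X) :=
    (R0.isPGroup'.map _).to_sup_of_normal_left' hxP (zpowers_le.mpr x.2)
  have hle : R ⊔ zpowers (x : X) ≤ π.ker :=
    sup_le (map_subtype_le _) (zpowers_le.mpr hx)
  have hmax := R0.3 (hsup.comap_of_injective π.ker.subtype Subtype.val_injective)
    (fun r hr => mem_sup_left (mem_map_of_mem _ hr))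
  have hx' : (⟨(x : X), hx⟩ : π.ker) ∈ (R ⊔ zpowers (x : X)).comap π.ker.subtype :=
    mem_sup_right (mem_zpowers _)
  exact mem_subgroupOf.mpr ⟨_, hmax.le hx', rfl⟩

end CfsgLib.PrimePowerOutside
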