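import Cfsg.Agent.PrimePowerOutside.Basic

/-!
# Nonsolvable normal subgroups with only prime power orders outside
-/

namespace CfsgLib.PrimePowerOutside

open Subgroup

set_option linter.style.haveILetI false

universe u

/-- A finite nonsolvable group has a nonabelian simple section. -/
theorem exists_simple_section {Q : Type u} [Group Q] [Finite Q] (h : ¬ Group.IsSolvable Q) :
    ∃ (M : Subgroup Q) (M₀ : Subgroup M) (_ : M₀.Normal),
      IsSimpleGroup (M ⧸ M₀) ∧ ¬ IsMulCommutative (M ⧸ M₀) := by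
  obtain ⟨M, hM, hMmin⟩ := Set.Finite.exists_minimal
    (s := {M : Subgroup Q | ¬ Group.IsSolvable M}) (Set.toFinite _)
    ⟨⊤, fun h' => h (Group.isSolvable_of_surjective (f := (Subgroup.subtype (⊤ : Subgroup Q)))
      fun x => ⟨⟨x, mem_top x⟩, rfl⟩)⟩
  haveI : Nontrivial M := by
    by_contra hh
    rw [not_nontrivial_iff_subsingleton] at hh
    exact hM (Group.isSolvable_of_comm fun a b => Subsingleton.elim _ _)
  obtain ⟨M₀, ⟨hn, hne⟩, hmax⟩ := Set.Finite.exists_maximal
    (s := {N : Subgroup M | N.Normal ∧ N ≠ ⊤}) (Set.toFinite _) ⟨⊥, inferInstance, bot_ne_top⟩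
  haveI := hn
  haveI : Nontrivial (M ⧸ M₀) := QuotientGroup.nontrivial_iff.mpr hne
  have hsimple : IsSimpleGroup (M ⧸ M₀) := by
    refine ⟨fun L hL => ?_⟩
    have hle : M₀ ≤ L.comap (QuotientGroup.mk' M₀) := fun x hx => by
      rw [mem_comap, QuotientGroup.mk'_apply, (QuotientGroup.eq_one_iff x).mpr hx]
      exact one_mem _
    by_cases htop : L.comap (QuotientGroup.mk' M₀) = ⊤
    · exact Or.inr (top_unique fun x _ => by
        obtain ⟨y, rfl⟩ := QuotientGroup.mk'_surjective M₀ x
        exact htop.ge (mem_top y))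
    · refine Or.inl ((Subgroup.eq_bot_iff_forall L).mpr fun x hx => ?_)
      obtain ⟨y, rfl⟩ := QuotientGroup.mk'_surjective M₀ x
      exact (QuotientGroup.eq_one_iff y).mpr (hmax ⟨hL.comap _, htop⟩ hle hx)
  refine ⟨M, M₀, hn, hsimple, fun hc => hM ?_⟩
  have hsol0 : Group.IsSolvable M₀ := by
    by_contra h0
    have hle : M₀.map M.subtype ≤ M := map_subtype_le _
    have h1 := hMmin (show ¬ Group.IsSolvable (M₀.map M.subtype) from fun h' => h0 (by
      haveI := h'
      exact Group.isSolvable_of_isSolvable_injective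
        (f := (M₀.equivMapOfInjective M.subtype Subtype.val_injective).toMonoidHom)
        (M₀.equivMapOfInjective M.subtype Subtype.val_injective).injective)) hle
    exact hne (top_unique fun x _ => by
      obtain ⟨z, hz, hzx⟩ := mem_map.mp (h1 x.2)
      rwa [← Subtype.ext hzx])
  haveI := hsol0
  haveI : Group.IsSolvable (M ⧸ M₀) := Group.isSolvable_of_comm fun a b => hc.is_comm.comm a b
  exact (Group.isSolvable_iff_subgroup_quotient M₀).mpr ⟨hsol0, this⟩

/-- If `N` is normal nonsolvable and every element outside has prime power order, `G ⧸ N` is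
solvable. -/
theorem isSolvable_quotient {G : Type u} [Group G] [Finite G] (N : Subgroup G) [N.Normal]
    (hns : ¬ Group.IsSolvable ↥N) (h : ∀ x : G, x ∉ N → IsPrimePow (orderOf x)) :
    Group.IsSolvable (G ⧸ N) := by
  by_contra hq
  -- an odd prime dividing the order of `N`
  obtain ⟨p, hp, hp2, hpd⟩ : ∃ p, p.Prime ∧ p ≠ 2 ∧ p ∣ Nat.card N := by
    by_contra hcon
    push Not at hcon
    have h2 : IsPGroup 2 N := by
      rw [IsPGroup.iff_card]
      exact ⟨_, Nat.eq_prime_pow_of_unique_prime_dvd Nat.card_pos.ne' fun {d} hd hdd =>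
        by_contra fun hne => hcon d hd hne hdd⟩
    haveI : Fact (Nat.Prime 2) := ⟨Nat.prime_two⟩
    haveI := h2.isNilpotent
    exact hns inferInstance
  haveI := Fact.mk hp
  obtain ⟨M, M₀, hn, hsimple, hna⟩ := exists_simple_section hq
  obtain ⟨P₀⟩ : Nonempty (Sylow p N) := inferInstance
  set P := (P₀ : Subgroup N).map N.subtype with hP
  set K := M.comap (QuotientGroup.mk' N) with hK
  set H := normalizer (P : Set G) ⊓ K with hH
  have hNK : N ≤ K := fun x hx => by
    rw [hK, mem_comap, QuotientGroup.mk'_apply, (QuotientGroup.eq_one_iff x).mpr hx]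
    exact one_mem _
  have hF : normalizer (P : Set G) ⊔ N = ⊤ := P₀.normalizer_sup_eq_top
  let π : H →* M ⧸ M₀ := (QuotientGroup.mk' M₀).comp
    (((QuotientGroup.mk' N).comp H.subtype).codRestrict M fun x => x.2.2)
  have hπN : ∀ x : H, (x : G) ∈ N → π x = 1 := fun x hx => by
    show QuotientGroup.mk' M₀ ⟨((x : G) : G ⧸ N), _⟩ = 1
    have : (⟨((x : G) : G ⧸ N), x.2.2⟩ : M) = 1 := Subtype.ext ((QuotientGroup.eq_one_iff _).mpr hx)
    exact (congrArg (QuotientGroup.mk' M₀) this).trans (map_one _)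
  have hπ : Function.Surjective π := by
    intro s
    obtain ⟨m, rfl⟩ := QuotientGroup.mk'_surjective M₀ s
    obtain ⟨g, hg⟩ := QuotientGroup.mk'_surjective N (m : G ⧸ N)
    obtain ⟨a, ha, b, hb, hab⟩ := mem_sup_of_normal_right.mp (hF.ge (mem_top g))
    have hag : ((a : G) : G ⧸ N) = (m : G ⧸ N) := by
      rw [← hg, QuotientGroup.mk'_apply, ← hab, QuotientGroup.mk_mul,
        (QuotientGroup.eq_one_iff b).mpr hb, mul_one]
    refine ⟨⟨a, ha, ?_⟩, ?_⟩
    · show (QuotientGroup.mk' N) a ∈ M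
      rw [QuotientGroup.mk'_apply, hag]; exact m.2
    · exact congrArg (QuotientGroup.mk' M₀) (Subtype.ext hag)
  have hpp : ∀ x : H, π x ≠ 1 → IsPrimePow (orderOf x) := fun x hx => by
    rw [← Subgroup.orderOf_coe]
    exact h _ fun hxN => hx (hπN x hxN)
  let φ : H →* MulAut P := (MulAut.conjNormal (H := P.subgroupOf (normalizer (P : Set G)))).comp
    (Subgroup.inclusion inf_le_left) |> fun f => (MulAut.congr (subgroupOfEquivOfLe
      (le_normalizer (H := P)))).toMonoidHom.comp f
  have hφ : ∀ (x : H) (v : P), ((φ x v : P) : G) = (x : G) * v * (x : G)⁻¹ := fun x v => rfl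
  have hPN : P ≤ N := map_subtype_le _
  have hPne : P ≠ ⊥ := by
    intro e
    rw [hP, map_eq_bot_iff_of_injective _ Subtype.val_injective] at e
    exact P₀.ne_bot_of_dvd_card hpd e
  -- the kernel of the action lies in the kernel of `π`
  have hfix : ∀ x : H, π x ≠ 1 → ∀ v : P, φ x v = v → (∃ a, orderOf x = 2 ^ a) → v = 1 := by
    intro x hx v hv ⟨a, ha⟩
    have hc : Commute (x : G) v := by
      have := congrArg Subtype.val hv
      rw [hφ, mul_inv_eq_iff_eq_mul] at this
      exact this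
    obtain ⟨b, hb⟩ := IsPGroup.iff_orderOf.mp (P₀.isPGroup'.map N.subtype) v
    rcases not_commute (π := QuotientGroup.mk' N) (fun y hy => h y fun hyN => hy
        ((QuotientGroup.eq_one_iff y).mpr hyN)) (x := (x : G)) (v := (v : G))
        (by
          rw [map_mul, show QuotientGroup.mk' N (v : G) = 1 from
            (QuotientGroup.eq_one_iff _).mpr (hPN v.2), mul_one]
          exact fun e => hx (hπN x ((QuotientGroup.eq_one_iff _).mp e)))
        hc Nat.prime_two hp hp2.symm (by rwa [Subgroup.orderOf_coe]) (by rwa [Subgroup.orderOf_coe])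
      with h' | h'
    · exact absurd (by rw [show x = 1 from Subtype.ext h', map_one]) hx
    · exact Subtype.ext h'
  have hker : φ.ker ≤ π.ker := by
    intro x hx
    -- otherwise the kernel maps onto the simple group, which has an involution
    by_contra hxπ
    have hnorm : (φ.ker.map π).Normal := (MonoidHom.normal_ker φ).map π hπ
    haveI := hsimple
    rcases hnorm.eq_bot_or_eq_top with e | e
    · exact hxπ ((Subgroup.map_eq_bot_iff _).mp e hx)
    haveI : Fact (Nat.Prime 2) := ⟨Nat.prime_two⟩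
    obtain ⟨t, -, ht, -⟩ := exists_commuting_involutions (S := M ⧸ M₀) hna (fun s hs => by
      obtain ⟨y, rfl⟩ := hπ s
      exact (hpp y hs).dvd (orderOf_map_dvd π y) fun h' => hs (orderOf_eq_one_iff.mp h'))
    obtain ⟨y, hy, hyt⟩ := mem_map.mp (e.ge (mem_top t))
    have hy1 : π y ≠ 1 := fun h' => by rw [← hyt, h', orderOf_one] at ht; omega
    obtain ⟨a, ha⟩ := lift_pow hpp hy1 Nat.prime_two (by rw [hyt, ht])
    obtain ⟨v, hv1⟩ : ∃ v : P, v ≠ 1 := by
      haveI : Nontrivial P := (nontrivial_iff_ne_bot P).mpr hPne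
      exact exists_ne 1
    exact hv1 (hfix y hy1 v (by rw [MonoidHom.mem_ker.mp hy]; rfl) ⟨a, ha⟩)
  have hker' : φ.rangeRestrict.ker ≤ π.ker := by rwa [MonoidHom.ker_rangeRestrict]
  let π' : φ.range →* M ⧸ M₀ :=
    φ.rangeRestrict.liftOfSurjective φ.rangeRestrict_surjective ⟨π, hker'⟩
  have hπ' : ∀ x : H, π' (φ.rangeRestrict x) = π x := fun x =>
    MonoidHom.liftOfRightInverse_comp_apply _ _ _ ⟨π, hker'⟩ x
  haveI := hsimple
  refine false_of_fpf hna π' (fun s => ?_) ?_ φ.range.subtype Subtype.val_injective ?_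
  · obtain ⟨x, rfl⟩ := hπ s
    exact ⟨_, hπ' x⟩
  · intro y hy
    obtain ⟨x, rfl⟩ := φ.rangeRestrict_surjective y
    rw [hπ'] at hy
    exact (hpp x hy).dvd (orderOf_map_dvd _ x) fun h1 => hy (by
      rw [← hπ', orderOf_eq_one_iff.mp h1, map_one])
  · intro y hy hy2 v hv
    obtain ⟨x, rfl⟩ := φ.rangeRestrict_surjective y
    rw [hπ'] at hy
    refine hfix x hy v hv (lift_pow hpp hy Nat.prime_two ?_)
    rw [← hπ'] at hy ⊢
    rw [orderOf_eq_prime (by rw [sq, ← map_mul, hy2, map_one]) hy]

end CfsgLib.PrimePowerOutside
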